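import Groth.Agent.Lib.QReg.Basic
import Groth.Agent.Lib.RegLoc.Sop
import Mathlib.RingTheory.Filtration
import Mathlib.RingTheory.Valuation.ExtendToLocalization
import Mathlib.RingTheory.Valuation.Basic

/-! # The order valuation of a regular local ring -/

namespace Groth.Agent.GrVal

open IsLocalRing MvPolynomial WithZero

universe u

variable {A : Type u} [CommRing A] [IsRegularLocalRing A]

theorem quasiRegular {d : ℕ} (x : Fin d → A) (hx : Ideal.span (Set.range x) = maximalIdeal A)
    (hd : (maximalIdeal A).spanFinrank = d) : CAlgX.IsQuasiRegular x :=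
  QReg.isQuasiRegular_of_isH1Regular (QReg.isH1Regular_of_isWeaklyRegular x
    (RegLoc.isRegular_of_span_range d A x hx hd).toIsWeaklyRegular)

theorem exists_coeff_notMem {d a : ℕ} {x : Fin d → A} (hx : Ideal.span (Set.range x) = maximalIdeal A)
    {P : MvPolynomial (Fin d) A} (hP : P.IsHomogeneous a) (h : eval x P ∉ maximalIdeal A ^ (a + 1)) :
    MvPolynomial.map (residue A) P ≠ 0 := by
  intro h0
  apply h
  have hc : ∀ e, P.coeff e ∈ maximalIdeal A := fun e => by
    have := congrArg (coeff e) h0
    rwa [coeff_map, coeff_zero, residue_eq_zero_iff] at this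
  rw [P.as_sum, map_sum]
  refine sum_mem fun e he => ?_
  rw [eval_monomial, pow_succ']
  refine Ideal.mul_mem_mul (hc e) ?_
  have he' : e.degree = a := by
    by_contra hne; exact mem_support_iff.1 he (hP.coeff_eq_zero hne)
  rw [← he', Finsupp.degree_apply, ← Finset.prod_pow_eq_pow_sum]
  exact Ideal.prod_mem_prod fun i _ => Ideal.pow_mem_pow (hx ▸ Ideal.subset_span ⟨i, rfl⟩) _

theorem eval_notMem_of_map_ne_zero {d a : ℕ} {x : Fin d → A} (hx : Ideal.span (Set.range x) = maximalIdeal A)
    (hd : (maximalIdeal A).spanFinrank = d)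
    {P : MvPolynomial (Fin d) A} (hP : P.IsHomogeneous a) (h : MvPolynomial.map (residue A) P ≠ 0) :
    eval x P ∉ maximalIdeal A ^ (a + 1) := by
  intro hm
  refine h (MvPolynomial.ext _ _ fun e => ?_)
  rw [coeff_map, coeff_zero, residue_eq_zero_iff, ← hx]
  exact quasiRegular x hx hd a P hP (by rwa [hx]) e

/-- The associated graded ring of a regular local ring is a domain. -/
theorem mul_notMem_pow {a b : ℕ} {y z : A} (hy : y ∈ maximalIdeal A ^ a) (hy' : y ∉ maximalIdeal A ^ (a + 1))
    (hz : z ∈ maximalIdeal A ^ b) (hz' : z ∉ maximalIdeal A ^ (b + 1)) :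
    y * z ∉ maximalIdeal A ^ (a + b + 1) := by
  obtain ⟨x, hx⟩ := RegLoc.exists_fin_generators A
  obtain ⟨P, hP, rfl⟩ := QReg.exists_homogeneous_of_mem_pow (f := x) (hx.symm ▸ hy)
  obtain ⟨Q, hQ, rfl⟩ := QReg.exists_homogeneous_of_mem_pow (f := x) (hx.symm ▸ hz)
  rw [← map_mul]
  refine eval_notMem_of_map_ne_zero hx rfl (hP.mul hQ) ?_
  rw [map_mul]
  exact mul_ne_zero (exists_coeff_notMem hx hP hy') (exists_coeff_notMem hx hQ hz')

theorem exists_order {y : A} (hy : y ≠ 0) : ∃ n, y ∉ maximalIdeal A ^ (n + 1) := by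
  by_contra! h
  refine hy ?_
  have h2 : y ∈ (⨅ n : ℕ, maximalIdeal A ^ n : Ideal A) := by
    rw [Submodule.mem_iInf]
    exact fun n => Ideal.pow_le_pow_right n.le_succ (h n)
  rwa [Ideal.iInf_pow_eq_bot_of_isLocalRing _ (maximalIdeal.isMaximal A).ne_top, Ideal.mem_bot] at h2

open scoped Classical in
/-- The `m`-adic order (junk value `0` at `0`). -/
noncomputable def order (y : A) : ℕ := if h : y = 0 then 0 else Nat.find (exists_order h)

theorem order_spec {y : A} (hy : y ≠ 0) :
    y ∈ maximalIdeal A ^ order y ∧ y ∉ maximalIdeal A ^ (order y + 1) := by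
  classical
  rw [order, dif_neg hy]
  refine ⟨?_, Nat.find_spec (exists_order hy)⟩
  rcases Nat.eq_zero_or_pos (Nat.find (exists_order hy)) with h | h
  · simp [h]
  · have := Nat.find_min (exists_order hy) (Nat.sub_lt h one_pos)
    rw [not_not, Nat.sub_add_cancel (show 1 ≤ _ from h)] at this
    exact this

theorem order_eq {y : A} {n : ℕ} (h : y ∈ maximalIdeal A ^ n) (h' : y ∉ maximalIdeal A ^ (n + 1)) :
    order y = n := by
  have hy : y ≠ 0 := fun e => h' (e ▸ zero_mem _)
  obtain ⟨h1, h2⟩ := order_spec hy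
  rcases lt_trichotomy (order y) n with hlt | heq | hgt
  · exact absurd (Ideal.pow_le_pow_right hlt h) h2
  · exact heq
  · exact absurd (Ideal.pow_le_pow_right hgt h1) h'

theorem le_order {y : A} (hy : y ≠ 0) {n : ℕ} (h : y ∈ maximalIdeal A ^ n) : n ≤ order y := by
  by_contra hlt
  exact (order_spec hy).2 (Ideal.pow_le_pow_right (not_le.1 hlt) h)

/-- The order valuation. -/
noncomputable def ordVal : Valuation A (WithZero (Multiplicative ℤ)) :=
  open scoped Classical in
  { toFun := fun y => if y = 0 then 0 else exp (-(order y : ℤ))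
    map_zero' := if_pos rfl
    map_one' := by
      rw [if_neg one_ne_zero, order_eq (n := 0) (by simp) (by
        simp [← Ideal.eq_top_iff_one, (maximalIdeal.isMaximal A).ne_top])]
      simp
    map_mul' := fun y z => by
      haveI := RegLoc.isDomain A
      rcases eq_or_ne y 0 with rfl | hy
      · simp
      rcases eq_or_ne z 0 with rfl | hz
      · simp
      obtain ⟨a1, a2⟩ := order_spec hy
      obtain ⟨b1, b2⟩ := order_spec hz
      rw [if_neg hy, if_neg hz, if_neg (mul_ne_zero hy hz),
        order_eq (pow_add (maximalIdeal A) _ _ ▸ Ideal.mul_mem_mul a1 b1) (mul_notMem_pow a1 a2 b1 b2),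
        ← exp_add]
      congr 1
      push_cast; ring
    map_add_le_max' := fun y z => by
      by_cases hs : y + z = 0
      · rw [if_pos hs]; exact zero_le
      rcases eq_or_ne y 0 with rfl | hy
      · have e : order (0 + z) = order z := by rw [zero_add]
        have hz0 : z ≠ 0 := fun h => hs (by rw [h, zero_add])
        rw [if_neg hs, e, if_pos rfl, if_neg hz0]
        exact le_max_right _ _
      rcases eq_or_ne z 0 with rfl | hz
      · have e : order (y + 0) = order y := by rw [add_zero]
        rw [if_neg hs, e, if_neg hy]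
        exact le_max_left _ _
      rw [if_neg hy, if_neg hz, if_neg hs, le_max_iff, exp_le_exp, exp_le_exp]
      have := le_order hs (n := min (order y) (order z)) (add_mem
        (Ideal.pow_le_pow_right (min_le_left _ _) (order_spec hy).1)
        (Ideal.pow_le_pow_right (min_le_right _ _) (order_spec hz).1))
      omega }

theorem ordVal_of_ne {y : A} (hy : y ≠ 0) : ordVal y = exp (-(order y : ℤ)) := by
  classical
  exact if_neg hy

theorem ordVal_eq {y : A} {n : ℕ} (h : y ∈ maximalIdeal A ^ n) (h' : y ∉ maximalIdeal A ^ (n + 1)) :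
    ordVal y = exp (-(n : ℤ)) := by
  rw [ordVal_of_ne (fun e : y = 0 => h' (by rw [e]; exact zero_mem _)), order_eq h h']

theorem ordVal_le_one (y : A) : ordVal y ≤ 1 := by
  rcases eq_or_ne y 0 with rfl | hy
  · simp
  · rw [ordVal_of_ne hy, ← exp_zero, exp_le_exp]; omega

theorem ordVal_lt_one_iff (y : A) : ordVal y < 1 ↔ y ∈ maximalIdeal A := by
  rcases eq_or_ne y 0 with rfl | hy
  · simp
  rw [ordVal_of_ne hy, ← exp_zero, exp_lt_exp]
  constructor
  · intro h
    exact Ideal.pow_le_self (by omega) (order_spec hy).1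
  · intro h
    have := le_order hy (n := 1) (by rwa [pow_one])
    omega

theorem supp_ordVal : nonZeroDivisors A ≤ (ordVal (A := A)).supp.primeCompl := by
  haveI := RegLoc.isDomain A
  intro y hy
  show y ∉ (ordVal (A := A)).supp
  rw [Valuation.mem_supp_iff, ordVal_of_ne (nonZeroDivisors.ne_zero hy)]
  exact exp_ne_zero

/-- The order valuation on the fraction field. -/
noncomputable def ordK : Valuation (FractionRing A) (WithZero (Multiplicative ℤ)) :=
  (ordVal (A := A)).extendToLocalization supp_ordVal (FractionRing A)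

theorem ordK_algebraMap (y : A) : ordK (algebraMap A (FractionRing A) y) = ordVal y :=
  Valuation.extendToLocalization_apply_map_apply _ _ _ _

end Groth.Agent.GrVal
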