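import Groth.Agent.Lib.GrVal.Order
import Mathlib.RingTheory.DiscreteValuationRing.Basic
import Mathlib.RingTheory.Localization.FractionRing
import Mathlib.RingTheory.AlgebraicIndependent.Basic
import Mathlib.FieldTheory.IntermediateField.Adjoin.Basic
import Mathlib.RingTheory.LocalRing.ResidueField.Basic

/-! # The valuation ring of the order valuation and its residue field -/

namespace Groth.Agent.GrVal

open IsLocalRing MvPolynomial WithZero

universe u

variable (A : Type u) [CommRing A] [IsRegularLocalRing A]

/-- The valuation ring, as an `A`-subalgebra of the fraction field. -/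
noncomputable def V : Subalgebra A (FractionRing A) where
  carrier := {z | ordK z ≤ 1}
  mul_mem' {a b} ha hb := (map_mul ordK a b).trans_le (mul_le_one' ha hb)
  add_mem' {a b} ha hb := (ordK.map_add a b).trans (max_le ha hb)
  algebraMap_mem' y := (ordK_algebraMap y).trans_le (ordVal_le_one y)

variable {A}

theorem mem_V {z : FractionRing A} : z ∈ V A ↔ ordK z ≤ 1 := Iff.rfl

theorem isUnit_iff (z : V A) : IsUnit z ↔ ordK (z : FractionRing A) = 1 := by
  haveI := RegLoc.isDomain A
  constructor
  · rintro ⟨u, rfl⟩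
    refine le_antisymm (u : V A).2 ?_
    have h2 : ordK ((u : V A) : FractionRing A) * ordK ((↑(u⁻¹) : V A) : FractionRing A) = 1 := by
      rw [← map_mul, ← MulMemClass.coe_mul, Units.mul_inv]; simp
    calc (1 : WithZero (Multiplicative ℤ)) = _ := h2.symm
      _ ≤ ordK ((u : V A) : FractionRing A) * 1 := mul_le_mul' le_rfl (↑(u⁻¹) : V A).2
      _ = _ := mul_one _
  · intro h
    have hz : (z : FractionRing A) ≠ 0 := fun e => by simp [e] at h
    exact IsUnit.of_mul_eq_one (a := z) ⟨(z : FractionRing A)⁻¹, by rw [mem_V, map_inv₀, h, inv_one]⟩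
      (Subtype.ext (mul_inv_cancel₀ hz))

/-- Every nonzero element of the fraction field has some integral order. -/
theorem exists_exp {z : FractionRing A} (hz : z ≠ 0) : ∃ n : ℤ, ordK z = exp n := by
  haveI := RegLoc.isDomain A
  obtain ⟨a, b, hb, rfl⟩ := IsFractionRing.div_surjective (A := A) z
  have ha : a ≠ 0 := fun e => hz (by simp [e])
  refine ⟨-(order a : ℤ) - -(order b : ℤ), ?_⟩
  rw [map_div₀, ordK_algebraMap, ordK_algebraMap, ordVal_of_ne ha,
    ordVal_of_ne (nonZeroDivisors.ne_zero hb), div_eq_mul_inv, ← exp_neg, ← exp_add, sub_eq_add_neg]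

variable (hA : ¬ IsField A)
include hA

theorem exists_uniformizer : ∃ π : A, ordVal π = exp (-1) ∧ π ∈ maximalIdeal A := by
  haveI := RegLoc.isDomain A
  have hne : maximalIdeal A ≠ maximalIdeal A ^ 2 := fun e => hA (by
    rw [isField_iff_maximalIdeal_eq]
    exact Submodule.eq_bot_of_le_smul_of_le_jacobson_bot _ _ (IsNoetherian.noetherian _)
      (by rw [smul_eq_mul, ← sq]; exact e.le) (maximalIdeal_le_jacobson _))
  obtain ⟨π, h1, h2⟩ := SetLike.exists_of_lt
    (lt_of_le_of_ne (Ideal.pow_le_self two_ne_zero) hne.symm)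
  exact ⟨π, ordVal_eq (n := 1) (by rwa [pow_one]) h2, h1⟩

theorem isDVR [IsDomain (V A)] : IsDiscreteValuationRing (V A) := by
  haveI := RegLoc.isDomain A
  obtain ⟨π, hπ, -⟩ := exists_uniformizer hA
  let p : V A := algebraMap A (V A) π
  have hp : ordK (p : FractionRing A) = exp (-1) := (ordK_algebraMap π).trans hπ
  have hp0 : (p : FractionRing A) ≠ 0 := fun e => by rw [e, map_zero] at hp; exact exp_ne_zero hp.symm
  refine IsDiscreteValuationRing.ofHasUnitMulPowIrreducibleFactorization ⟨p, ⟨?_, ?_⟩, fun {x} hx => ?_⟩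
  · rw [isUnit_iff, hp, ← exp_zero, exp_inj]; omega
  · intro a b hab
    rw [isUnit_iff, isUnit_iff]
    have h : ordK (a : FractionRing A) * ordK (b : FractionRing A) = exp (-1) := by
      rw [← map_mul, ← MulMemClass.coe_mul, ← hab, hp]
    have ha : (a : FractionRing A) ≠ 0 := fun e => by rw [e, map_zero, zero_mul] at h; exact exp_ne_zero h.symm
    have hb : (b : FractionRing A) ≠ 0 := fun e => by rw [e, map_zero, mul_zero] at h; exact exp_ne_zero h.symm
    obtain ⟨i, hi⟩ := exists_exp ha
    obtain ⟨j, hj⟩ := exists_exp hb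
    have hi0 : ordK (a : FractionRing A) ≤ 1 := a.2
    have hj0 : ordK (b : FractionRing A) ≤ 1 := b.2
    rw [hi, hj, ← exp_add, exp_inj] at h
    rw [hi, ← exp_zero, exp_le_exp] at hi0
    rw [hj, ← exp_zero, exp_le_exp] at hj0
    rw [hi, hj, ← exp_zero, exp_inj, exp_inj]
    omega
  · have hx' : (x : FractionRing A) ≠ 0 := fun e => hx (Subtype.ext e)
    obtain ⟨i, hi⟩ := exists_exp hx'
    have hi0 : ordK (x : FractionRing A) ≤ 1 := x.2
    rw [hi, ← exp_zero, exp_le_exp] at hi0
    refine ⟨(-i).toNat, ?_⟩
    have hu : ordK ((x : FractionRing A) / (p : FractionRing A) ^ (-i).toNat) = 1 := by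
      rw [map_div₀, map_pow, hi, hp, ← exp_nsmul, div_eq_mul_inv, ← exp_neg, ← exp_add, ← exp_zero,
        exp_inj]
      simp; omega
    obtain ⟨w, hw⟩ := (isUnit_iff (A := A) ⟨_, mem_V.2 hu.le⟩).2 hu
    refine ⟨w, Subtype.ext ?_⟩
    rw [hw]
    exact mul_div_cancel₀ _ (pow_ne_zero _ hp0)

omit hA in
theorem isFractionRing : IsFractionRing (V A) (FractionRing A) := by
  haveI := RegLoc.isDomain A
  haveI : FaithfulSMul (V A) (FractionRing A) :=
    (faithfulSMul_iff_algebraMap_injective _ _).2 Subtype.val_injective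
  refine IsFractionRing.of_field _ _ fun z => ?_
  obtain ⟨a, b, -, rfl⟩ := IsFractionRing.div_surjective (A := A) z
  exact ⟨algebraMap A (V A) a, algebraMap A (V A) b, rfl⟩

omit hA in
theorem comap_maximalIdeal [IsLocalRing (V A)] :
    (maximalIdeal (V A)).comap (algebraMap A (V A)) = maximalIdeal A := by
  ext y
  refine Iff.trans ?_ (ordVal_lt_one_iff y)
  rw [Ideal.mem_comap, mem_maximalIdeal, mem_nonunits_iff, isUnit_iff,
    show ((algebraMap A (V A) y : V A) : FractionRing A) = algebraMap A _ y from rfl, ordK_algebraMap]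
  exact ⟨fun h => lt_of_le_of_ne (ordVal_le_one y) h, fun h => h.ne⟩

theorem residue_transcendental [IsLocalRing (V A)]
    (φ : ResidueField A →+* ResidueField (V A))
    (hφ : φ.comp (residue A) = (residue (V A)).comp (algebraMap A (V A))) :
    letI := φ.toAlgebra
    ∃ (ι : Type u) (t : ι → ResidueField (V A)), AlgebraicIndependent (ResidueField A) t ∧
      IntermediateField.adjoin (ResidueField A) (Set.range t) = ⊤ := by
  letI := φ.toAlgebra
  haveI := RegLoc.isDomain A
  obtain ⟨d, hd⟩ : ∃ d, (maximalIdeal A).spanFinrank = d := ⟨_, rfl⟩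
  obtain ⟨x, hx⟩ : ∃ x : Fin d → A, Ideal.span (Set.range x) = maximalIdeal A :=
    hd ▸ RegLoc.exists_fin_generators A
  obtain ⟨i₀⟩ : Nonempty (Fin d) := by
    by_contra h
    rw [not_nonempty_iff] at h
    rw [Set.range_eq_empty, Ideal.span_empty] at hx
    exact hA (isField_iff_maximalIdeal_eq.2 hx.symm)
  let K := FractionRing A
  let g : A →+* K := algebraMap A K
  have hmem : ∀ i, x i ∈ maximalIdeal A := fun i => by rw [← hx]; exact Ideal.subset_span ⟨i, rfl⟩
  have hx0 : ordVal (x i₀) = exp (-1) := by
    refine ordVal_eq (n := 1) (by rw [pow_one]; exact hmem i₀) ?_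
    have h := eval_notMem_of_map_ne_zero hx hd (P := (X i₀ : MvPolynomial (Fin d) A))
      (isHomogeneous_X A i₀) (by rw [map_X]; exact X_ne_zero i₀)
    rwa [eval_X] at h
  have hne : g (x i₀) ≠ 0 := fun e => by
    have h := ordK_algebraMap (x i₀)
    rw [show algebraMap A (FractionRing A) (x i₀) = 0 from e, map_zero, hx0] at h
    exact exp_ne_zero h.symm
  let τ : Fin d → V A := fun i => ⟨g (x i) / g (x i₀), mem_V.2 (by
    rw [map_div₀, ordK_algebraMap, ordK_algebraMap, hx0]
    have h1 : ordVal (x i) ≤ exp (-1) := by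
      rcases eq_or_ne (x i) 0 with e | e
      · simp [e]
      · rw [ordVal_of_ne e, exp_le_exp]
        have := le_order e (n := 1) (by rw [pow_one]; exact hmem i)
        omega
    exact (mul_le_mul' h1 le_rfl).trans_eq (mul_inv_cancel₀ exp_ne_zero))⟩
  let t : Fin d → ResidueField (V A) := fun i => residue (V A) (τ i)
  have ht0 : t i₀ = 1 := by
    have : τ i₀ = 1 := Subtype.ext (div_self hne)
    simp [t, this]
  -- evaluation of a homogeneous polynomial
  have heval : ∀ {D : ℕ} {P : MvPolynomial (Fin d) A}, P.IsHomogeneous D →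
      g (eval x P) = g (x i₀) ^ D * (eval₂ (algebraMap A (V A)) τ P : V A) := by
    intro D P hP
    change g (eval x P) = g (x i₀) ^ D * (V A).val (eval₂ (algebraMap A (V A)) τ P)
    rw [← AlgHom.coe_toRingHom, eval₂_comp_left, ← eval₂_id, eval₂_comp_left, RingHom.comp_id]
    have e1 : ((V A).val : V A →+* K).comp (algebraMap A (V A)) = g := rfl
    have e2 : (((V A).val : V A →+* K) : V A → K) ∘ τ = fun i => g (x i) / g (x i₀) := rfl
    rw [e1, e2, eval₂_eq, eval₂_eq, Finset.mul_sum]
    refine Finset.sum_congr rfl fun e he => ?_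
    have hdeg : ∑ i ∈ e.support, e i = D := by
      rw [← Finsupp.degree_apply]
      by_contra hne'; exact mem_support_iff.1 he (hP.coeff_eq_zero hne')
    simp only [Function.comp_apply, div_pow, Finset.prod_div_distrib, Finset.prod_pow_eq_pow_sum, hdeg]
    field_simp
    try rw [mul_div_assoc', mul_div_cancel_left₀ _ (pow_ne_zero _ hne)]
  have hcomp : φ.comp (residue A) = (residue (V A)).comp (algebraMap A (V A)) := hφ
  have hres : ∀ P : MvPolynomial (Fin d) A, residue (V A) (eval₂ (algebraMap A (V A)) τ P) =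
      aeval t (MvPolynomial.map (residue A) P) := by
    intro P
    rw [eval₂_comp_left, ← hcomp, aeval_def, eval₂_map]
    rfl
  have hres0 : ∀ z : V A, residue (V A) z = 0 ↔ ordK (z : K) < 1 := fun z => by
    rw [residue_eq_zero_iff, mem_maximalIdeal, mem_nonunits_iff, isUnit_iff]
    exact ⟨fun h => lt_of_le_of_ne z.2 h, fun h => h.ne⟩
  have hzero : ∀ {D : ℕ} {P : MvPolynomial (Fin d) A}, P.IsHomogeneous D →
      aeval t (MvPolynomial.map (residue A) P) = 0 → MvPolynomial.map (residue A) P = 0 := by
    intro D P hP h0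
    by_contra hne'
    rw [← hres, hres0] at h0
    have hnot := eval_notMem_of_map_ne_zero hx hd hP hne'
    have hmemD : eval x P ∈ maximalIdeal A ^ D := by
      rw [P.as_sum, map_sum]
      refine sum_mem fun e he => ?_
      rw [eval_monomial]
      refine Ideal.mul_mem_left _ _ ?_
      have he' : e.degree = D := by
        by_contra hne''; exact mem_support_iff.1 he (hP.coeff_eq_zero hne'')
      rw [← he', Finsupp.degree_apply, ← Finset.prod_pow_eq_pow_sum]
      exact Ideal.prod_mem_prod fun i _ => Ideal.pow_mem_pow (hmem i) _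
    have h1 := congrArg ordK (heval hP)
    rw [ordK_algebraMap, ordVal_eq hmemD hnot, map_mul, map_pow, ordK_algebraMap, hx0, ← exp_nsmul,
      nsmul_eq_mul, mul_neg, mul_one] at h1
    exact h0.ne ((mul_eq_left₀ exp_ne_zero).1 h1.symm)
  refine ⟨ULift.{u} {i : Fin d // i ≠ i₀}, fun i => t i.down.1, ?_, ?_⟩
  · rw [algebraicIndependent_iff]
    intro G hG
    classical
    let j : ULift.{u} {i : Fin d // i ≠ i₀} → Fin d := fun i => i.down.1
    have hj : Function.Injective j := fun a b h => ULift.ext _ _ (Subtype.ext h)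
    choose lift hlift using fun c : ResidueField A => IsLocalRing.residue_surjective (R := A) c
    set D := G.totalDegree
    let E : (ULift.{u} {i : Fin d // i ≠ i₀} →₀ ℕ) → (Fin d →₀ ℕ) := fun e =>
      Finsupp.mapDomain j e + Finsupp.single i₀ (D - e.degree)
    have hoff : ∀ e l, E e (j l) = e l := fun e l => by
      simp [E, Finsupp.mapDomain_apply hj, Finsupp.single_eq_of_ne (show j l ≠ i₀ from l.down.2)]
    let P : MvPolynomial (Fin d) A := ∑ e ∈ G.support, monomial (E e) (lift (G.coeff e))
    have hP : P.IsHomogeneous D := IsHomogeneous.sum _ _ _ fun e he => isHomogeneous_monomial _ (by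
      have h1 : e.degree ≤ D := by
        simpa [Finsupp.degree_apply, Finsupp.sum, D] using le_totalDegree he
      simp only [E, map_add, Finsupp.degree_single]
      rw [show (Finsupp.mapDomain j e).degree = e.degree by
        simp [Finsupp.degree_eq_weight_one, Finsupp.weight_apply, Finsupp.sum_mapDomain_index]]
      omega)
    have h0 : aeval t (MvPolynomial.map (residue A) P) = 0 := by
      rw [← hG]
      conv_rhs => rw [G.as_sum]
      simp only [P, map_sum, map_monomial, aeval_monomial, hlift]
      refine Finset.sum_congr rfl fun e _ => ?_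
      congr 1
      rw [Finsupp.prod_add_index' (fun _ => pow_zero _) (fun _ _ _ => pow_add _ _ _)]
      rw [Finsupp.prod_single_index (h := fun i k => t i ^ k) (pow_zero _),
        Finsupp.prod_mapDomain_index (h := fun i k => t i ^ k) (fun _ => pow_zero _) (fun _ _ _ => pow_add _ _ _)]
      simp [ht0, j]
    have h1 := hzero hP h0
    ext e
    by_cases he : e ∈ G.support
    · have := congrArg (coeff (E e)) h1
      simp only [P, map_sum, map_monomial, coeff_sum, coeff_monomial, hlift, coeff_zero] at this
      rw [Finset.sum_eq_single e] at this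
      · rwa [if_pos rfl] at this
      · intro e' _ hne'
        rw [if_neg]
        intro hE
        exact hne' (Finsupp.ext fun l => by rw [← hoff e' l, hE, hoff])
      · exact fun h => absurd he h
    · rw [coeff_zero]; exact notMem_support_iff.1 he
  · rw [eq_top_iff]
    intro z _
    set L := IntermediateField.adjoin (ResidueField A)
      (Set.range fun i : ULift.{u} {i : Fin d // i ≠ i₀} => t i.down.1)
    have htL : ∀ i, t i ∈ L := fun i => by
      rcases eq_or_ne i i₀ with rfl | hi
      · rw [ht0]; exact one_mem _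
      · exact IntermediateField.subset_adjoin _ _ ⟨⟨⟨i, hi⟩⟩, rfl⟩
    have hpoly : ∀ Q : MvPolynomial (Fin d) (ResidueField A), aeval t Q ∈ L := fun Q => by
      induction Q using MvPolynomial.induction_on with
      | C c => rw [aeval_C]; exact L.algebraMap_mem c
      | add p q hp hq => rw [map_add]; exact add_mem hp hq
      | mul_X p i hp => rw [map_mul, aeval_X]; exact mul_mem hp (htL i)
    obtain ⟨z, rfl⟩ := IsLocalRing.residue_surjective z
    by_cases hz : residue (V A) z = 0
    · rw [hz]; exact zero_mem _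
    have hz1 : ordK (z : K) = 1 := le_antisymm z.2 (not_lt.1 fun h => hz ((hres0 z).2 h))
    obtain ⟨a, b, hb, hab⟩ := IsFractionRing.div_surjective (A := A) (z : K)
    have hb0 : b ≠ 0 := nonZeroDivisors.ne_zero hb
    have ha0 : a ≠ 0 := fun e => by rw [← hab, e, map_zero, zero_div, map_zero] at hz1; simp at hz1
    have hord : order a = order b := by
      rw [← hab, map_div₀, ordK_algebraMap, ordK_algebraMap, ordVal_of_ne ha0, ordVal_of_ne hb0,
        div_eq_one_iff_eq exp_ne_zero, exp_inj] at hz1
      omega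
    obtain ⟨P, hP, hPa⟩ := QReg.exists_homogeneous_of_mem_pow (f := x)
      (hx.symm ▸ (order_spec ha0).1 : a ∈ Ideal.span (Set.range x) ^ order a)
    obtain ⟨Q, hQ, hQb⟩ := QReg.exists_homogeneous_of_mem_pow (f := x)
      (hx.symm ▸ (order_spec hb0).1 : b ∈ Ideal.span (Set.range x) ^ order b)
    have heq : z * eval₂ (algebraMap A (V A)) τ Q = eval₂ (algebraMap A (V A)) τ P := by
      apply Subtype.ext
      have hp' := heval hP
      have hq' := heval hQ
      rw [hPa] at hp'
      rw [hQb, ← hord] at hq'
      have hbne : g b ≠ 0 := by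
        simpa [g] using (FaithfulSMul.algebraMap_injective A (FractionRing A)).ne hb0
      have : (z : K) * g b = g a := by rw [← hab]; exact div_mul_cancel₀ _ hbne
      rw [hp', hq', mul_left_comm] at this
      exact mul_left_cancel₀ (pow_ne_zero _ hne) this
    have hQne : MvPolynomial.map (residue A) Q ≠ 0 := exists_coeff_notMem hx hQ (hQb ▸ (order_spec hb0).2)
    have h2 := congrArg (residue (V A)) heq
    rw [map_mul, hres, hres] at h2
    have hQt : aeval t (MvPolynomial.map (residue A) Q) ≠ 0 := fun h => hQne (hzero hQ h)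
    rw [eq_div_of_mul_eq hQt h2]
    exact div_mem (hpoly _) (hpoly _)

end Groth.Agent.GrVal
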